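import Mathlib
import Cfsg.Agent.Lib.Helper56.TC
import Cfsg.Agent.Lib.Helper56.Fi24U9.C0
import Cfsg.Agent.Lib.Helper56.Fi24U9.C1
import Cfsg.Agent.Lib.Helper56.Fi24U9.C2
import Cfsg.Agent.Lib.Helper56.Fi24U9.C3
import Cfsg.Agent.Lib.Helper56.Fi24U9.C4
import Cfsg.Agent.Lib.Helper56.Fi24U9.C5
import Cfsg.Agent.Lib.Helper56.Fi24U9.C6
import Cfsg.Agent.Lib.Helper56.Fi24U9.C7
import Cfsg.Agent.Lib.Helper56.Fi24U9.C8
import Cfsg.Agent.Lib.Helper56.Fi24U9.C9
import Cfsg.Agent.Lib.Helper56.Fi24U9.C10
import Cfsg.Agent.Lib.Helper56.Fi24U9.C11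
set_option autoImplicit false
set_option maxRecDepth 1000000

namespace Cfsg.Agent.Lib.Helper56.Fi24U9

open Cfsg.Agent.Lib.Helper56.TC Cfsg.Agent.Lib.Helper56.TC.Tabs

theorem uN_456 : Upto T.chkName 456 := upto_add (upto_zero T.chkName) rfl cN_0
theorem uN_915 : Upto T.chkName 915 := upto_add uN_456 rfl cN_456
theorem uN_1378 : Upto T.chkName 1378 := upto_add uN_915 rfl cN_915
theorem uN_1841 : Upto T.chkName 1841 := upto_add uN_1378 rfl cN_1378
theorem uN_2303 : Upto T.chkName 2303 := upto_add uN_1841 rfl cN_1841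
theorem uN_2766 : Upto T.chkName 2766 := upto_add uN_2303 rfl cN_2303
theorem uN_3234 : Upto T.chkName 3234 := upto_add uN_2766 rfl cN_2766
theorem uN_3699 : Upto T.chkName 3699 := upto_add uN_3234 rfl cN_3234
theorem uN_4165 : Upto T.chkName 4165 := upto_add uN_3699 rfl cN_3699
theorem uN_4632 : Upto T.chkName 4632 := upto_add uN_4165 rfl cN_4165
theorem uN_5101 : Upto T.chkName 5101 := upto_add uN_4632 rfl cN_4632
theorem uN_5568 : Upto T.chkName 5568 := upto_add uN_5101 rfl cN_5101
theorem uN_6037 : Upto T.chkName 6037 := upto_add uN_5568 rfl cN_5568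
theorem uN_6500 : Upto T.chkName 6500 := upto_add uN_6037 rfl cN_6037
theorem uN_6970 : Upto T.chkName 6970 := upto_add uN_6500 rfl cN_6500
theorem uN_7440 : Upto T.chkName 7440 := upto_add uN_6970 rfl cN_6970
theorem uN_7904 : Upto T.chkName 7904 := upto_add uN_7440 rfl cN_7440
theorem uN_8375 : Upto T.chkName 8375 := upto_add uN_7904 rfl cN_7904
theorem uN_8845 : Upto T.chkName 8845 := upto_add uN_8375 rfl cN_8375
theorem uN_9312 : Upto T.chkName 9312 := upto_add uN_8845 rfl cN_8845
theorem uN_9781 : Upto T.chkName 9781 := upto_add uN_9312 rfl cN_9312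
theorem uN_10250 : Upto T.chkName 10250 := upto_add uN_9781 rfl cN_9781
theorem uN_10721 : Upto T.chkName 10721 := upto_add uN_10250 rfl cN_10250
theorem uN_11186 : Upto T.chkName 11186 := upto_add uN_10721 rfl cN_10721
theorem uN_11658 : Upto T.chkName 11658 := upto_add uN_11186 rfl cN_11186
theorem uN_12127 : Upto T.chkName 12127 := upto_add uN_11658 rfl cN_11658
theorem uN_12596 : Upto T.chkName 12596 := upto_add uN_12127 rfl cN_12127
theorem uN_13058 : Upto T.chkName 13058 := upto_add uN_12596 rfl cN_12596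
theorem uN_13521 : Upto T.chkName 13521 := upto_add uN_13058 rfl cN_13058
theorem uN_13993 : Upto T.chkName 13993 := upto_add uN_13521 rfl cN_13521
theorem uN_14460 : Upto T.chkName 14460 := upto_add uN_13993 rfl cN_13993
theorem uN_14924 : Upto T.chkName 14924 := upto_add uN_14460 rfl cN_14460
theorem uN_15388 : Upto T.chkName 15388 := upto_add uN_14924 rfl cN_14924
theorem uN_15864 : Upto T.chkName 15864 := upto_add uN_15388 rfl cN_15388
theorem uN_16330 : Upto T.chkName 16330 := upto_add uN_15864 rfl cN_15864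
theorem uN_16796 : Upto T.chkName 16796 := upto_add uN_16330 rfl cN_16330
theorem uN_17262 : Upto T.chkName 17262 := upto_add uN_16796 rfl cN_16796
theorem uN_17740 : Upto T.chkName 17740 := upto_add uN_17262 rfl cN_17262
theorem uN_18206 : Upto T.chkName 18206 := upto_add uN_17740 rfl cN_17740
theorem uN_18669 : Upto T.chkName 18669 := upto_add uN_18206 rfl cN_18206
theorem uN_19143 : Upto T.chkName 19143 := upto_add uN_18669 rfl cN_18669
theorem uN_19622 : Upto T.chkName 19622 := upto_add uN_19143 rfl cN_19143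
theorem uN_20085 : Upto T.chkName 20085 := upto_add uN_19622 rfl cN_19622
theorem uN_20548 : Upto T.chkName 20548 := upto_add uN_20085 rfl cN_20085
theorem uN_21034 : Upto T.chkName 21034 := upto_add uN_20548 rfl cN_20548
theorem uN_21501 : Upto T.chkName 21501 := upto_add uN_21034 rfl cN_21034
theorem uN_21963 : Upto T.chkName 21963 := upto_add uN_21501 rfl cN_21501
theorem uN_22450 : Upto T.chkName 22450 := upto_add uN_21963 rfl cN_21963
theorem uN_22915 : Upto T.chkName 22915 := upto_add uN_22450 rfl cN_22450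
theorem uN_23390 : Upto T.chkName 23390 := upto_add uN_22915 rfl cN_22915
theorem uN_23865 : Upto T.chkName 23865 := upto_add uN_23390 rfl cN_23390
theorem uN_24326 : Upto T.chkName 24326 := upto_add uN_23865 rfl cN_23865
theorem uN_24812 : Upto T.chkName 24812 := upto_add uN_24326 rfl cN_24326
theorem uN_25269 : Upto T.chkName 25269 := upto_add uN_24812 rfl cN_24812
theorem uN_25756 : Upto T.chkName 25756 := upto_add uN_25269 rfl cN_25269
theorem uN_26217 : Upto T.chkName 26217 := upto_add uN_25756 rfl cN_25756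
theorem uN_26701 : Upto T.chkName 26701 := upto_add uN_26217 rfl cN_26217
theorem uN_27168 : Upto T.chkName 27168 := upto_add uN_26701 rfl cN_26701
theorem uN_27640 : Upto T.chkName 27640 := upto_add uN_27168 rfl cN_27168
theorem uN_28118 : Upto T.chkName 28118 := upto_add uN_27640 rfl cN_27640
theorem uN_28626 : Upto T.chkName 28626 := upto_add uN_28118 rfl cN_28118
theorem uN_29210 : Upto T.chkName 29210 := upto_add uN_28626 rfl cN_28626
theorem uN_29780 : Upto T.chkName 29780 := upto_add uN_29210 rfl cN_29210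
theorem uN_30354 : Upto T.chkName 30354 := upto_add uN_29780 rfl cN_29780
theorem uN_30930 : Upto T.chkName 30930 := upto_add uN_30354 rfl cN_30354
theorem uN_31512 : Upto T.chkName 31512 := upto_add uN_30930 rfl cN_30930
theorem uN_32086 : Upto T.chkName 32086 := upto_add uN_31512 rfl cN_31512
theorem uN_32671 : Upto T.chkName 32671 := upto_add uN_32086 rfl cN_32086
theorem uN_33247 : Upto T.chkName 33247 := upto_add uN_32671 rfl cN_32671
theorem uN_33835 : Upto T.chkName 33835 := upto_add uN_33247 rfl cN_33247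
theorem uN_34420 : Upto T.chkName 34420 := upto_add uN_33835 rfl cN_33835
theorem uN_35007 : Upto T.chkName 35007 := upto_add uN_34420 rfl cN_34420
theorem uN_35616 : Upto T.chkName 35616 := upto_add uN_35007 rfl cN_35007
theorem uN_36246 : Upto T.chkName 36246 := upto_add uN_35616 rfl cN_35616
theorem uN_36570 : Upto T.chkName 36570 := upto_add uN_36246 rfl cN_36246
theorem uV_469 : Upto T.chkV 469 := upto_add (upto_zero T.chkV) rfl cV_0
theorem uV_938 : Upto T.chkV 938 := upto_add uV_469 rfl cV_469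
theorem uV_1407 : Upto T.chkV 1407 := upto_add uV_938 rfl cV_938
theorem uV_1876 : Upto T.chkV 1876 := upto_add uV_1407 rfl cV_1407
theorem uV_2345 : Upto T.chkV 2345 := upto_add uV_1876 rfl cV_1876
theorem uV_2814 : Upto T.chkV 2814 := upto_add uV_2345 rfl cV_2345
theorem uV_3283 : Upto T.chkV 3283 := upto_add uV_2814 rfl cV_2814
theorem uV_3752 : Upto T.chkV 3752 := upto_add uV_3283 rfl cV_3283
theorem uV_4221 : Upto T.chkV 4221 := upto_add uV_3752 rfl cV_3752
theorem uV_4690 : Upto T.chkV 4690 := upto_add uV_4221 rfl cV_4221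
theorem uV_5159 : Upto T.chkV 5159 := upto_add uV_4690 rfl cV_4690
theorem uV_5628 : Upto T.chkV 5628 := upto_add uV_5159 rfl cV_5159
theorem uV_6097 : Upto T.chkV 6097 := upto_add uV_5628 rfl cV_5628
theorem uV_6566 : Upto T.chkV 6566 := upto_add uV_6097 rfl cV_6097
theorem uV_7035 : Upto T.chkV 7035 := upto_add uV_6566 rfl cV_6566
theorem uV_7504 : Upto T.chkV 7504 := upto_add uV_7035 rfl cV_7035
theorem uV_7973 : Upto T.chkV 7973 := upto_add uV_7504 rfl cV_7504
theorem uV_8442 : Upto T.chkV 8442 := upto_add uV_7973 rfl cV_7973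
theorem uV_8911 : Upto T.chkV 8911 := upto_add uV_8442 rfl cV_8442
theorem uV_9380 : Upto T.chkV 9380 := upto_add uV_8911 rfl cV_8911
theorem uV_9849 : Upto T.chkV 9849 := upto_add uV_9380 rfl cV_9380
theorem uV_10318 : Upto T.chkV 10318 := upto_add uV_9849 rfl cV_9849
theorem uV_10787 : Upto T.chkV 10787 := upto_add uV_10318 rfl cV_10318
theorem uV_11256 : Upto T.chkV 11256 := upto_add uV_10787 rfl cV_10787
theorem uV_11725 : Upto T.chkV 11725 := upto_add uV_11256 rfl cV_11256
theorem uV_12194 : Upto T.chkV 12194 := upto_add uV_11725 rfl cV_11725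
theorem uV_12663 : Upto T.chkV 12663 := upto_add uV_12194 rfl cV_12194
theorem uV_13132 : Upto T.chkV 13132 := upto_add uV_12663 rfl cV_12663
theorem uV_13601 : Upto T.chkV 13601 := upto_add uV_13132 rfl cV_13132
theorem uV_14070 : Upto T.chkV 14070 := upto_add uV_13601 rfl cV_13601
theorem uV_14539 : Upto T.chkV 14539 := upto_add uV_14070 rfl cV_14070
theorem uV_15008 : Upto T.chkV 15008 := upto_add uV_14539 rfl cV_14539
theorem uV_15477 : Upto T.chkV 15477 := upto_add uV_15008 rfl cV_15008
theorem uV_15946 : Upto T.chkV 15946 := upto_add uV_15477 rfl cV_15477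
theorem uV_16415 : Upto T.chkV 16415 := upto_add uV_15946 rfl cV_15946
theorem uV_16884 : Upto T.chkV 16884 := upto_add uV_16415 rfl cV_16415
theorem uV_17353 : Upto T.chkV 17353 := upto_add uV_16884 rfl cV_16884
theorem uV_17822 : Upto T.chkV 17822 := upto_add uV_17353 rfl cV_17353
theorem uV_18291 : Upto T.chkV 18291 := upto_add uV_17822 rfl cV_17822
theorem uV_18760 : Upto T.chkV 18760 := upto_add uV_18291 rfl cV_18291
theorem uV_19229 : Upto T.chkV 19229 := upto_add uV_18760 rfl cV_18760
theorem uV_19698 : Upto T.chkV 19698 := upto_add uV_19229 rfl cV_19229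
theorem uV_20167 : Upto T.chkV 20167 := upto_add uV_19698 rfl cV_19698
theorem uV_20636 : Upto T.chkV 20636 := upto_add uV_20167 rfl cV_20167
theorem uV_21105 : Upto T.chkV 21105 := upto_add uV_20636 rfl cV_20636
theorem uV_21574 : Upto T.chkV 21574 := upto_add uV_21105 rfl cV_21105
theorem uV_22043 : Upto T.chkV 22043 := upto_add uV_21574 rfl cV_21574
theorem uV_22512 : Upto T.chkV 22512 := upto_add uV_22043 rfl cV_22043
theorem uV_22981 : Upto T.chkV 22981 := upto_add uV_22512 rfl cV_22512
theorem uV_23450 : Upto T.chkV 23450 := upto_add uV_22981 rfl cV_22981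
theorem uV_23919 : Upto T.chkV 23919 := upto_add uV_23450 rfl cV_23450
theorem uV_24388 : Upto T.chkV 24388 := upto_add uV_23919 rfl cV_23919
theorem uV_24857 : Upto T.chkV 24857 := upto_add uV_24388 rfl cV_24388
theorem uV_25326 : Upto T.chkV 25326 := upto_add uV_24857 rfl cV_24857
theorem uV_25795 : Upto T.chkV 25795 := upto_add uV_25326 rfl cV_25326
theorem uV_26264 : Upto T.chkV 26264 := upto_add uV_25795 rfl cV_25795
theorem uV_26733 : Upto T.chkV 26733 := upto_add uV_26264 rfl cV_26264
theorem uV_27202 : Upto T.chkV 27202 := upto_add uV_26733 rfl cV_26733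
theorem uV_27671 : Upto T.chkV 27671 := upto_add uV_27202 rfl cV_27202
theorem uV_28140 : Upto T.chkV 28140 := upto_add uV_27671 rfl cV_27671
theorem uV_28431 : Upto T.chkV 28431 := upto_add uV_28140 rfl cV_28140

/-- The certificate is valid. -/
theorem cert : T.Cert where
  h0 := by decide +kernel
  hrx := by decide +kernel
  hs0 := by decide +kernel
  hname := uN_36570
  hV := uV_28431

theorem orep_0 : T.orep 0 < T.N ∧ T.ol (T.orep 0) = 0 := by decide +kernel
theorem cnt_0 : countLt (fun v => Nat.beq (T.ol v) 0) T.N = 1 := by decide +kernel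
theorem orep_1 : T.orep 1 < T.N ∧ T.ol (T.orep 1) = 1 := by decide +kernel
theorem cnt_1 : countLt (fun v => Nat.beq (T.ol v) 1) T.N = 960 := by decide +kernel
theorem orep_2 : T.orep 2 < T.N ∧ T.ol (T.orep 2) = 2 := by decide +kernel
theorem cnt_2 : countLt (fun v => Nat.beq (T.ol v) 2) T.N = 3150 := by decide +kernel
theorem orep_3 : T.orep 3 < T.N ∧ T.ol (T.orep 3) = 3 := by decide +kernel
theorem cnt_3 : countLt (fun v => Nat.beq (T.ol v) 3) T.N = 22400 := by decide +kernel
theorem orep_4 : T.orep 4 < T.N ∧ T.ol (T.orep 4) = 4 := by decide +kernel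
theorem cnt_4 : countLt (fun v => Nat.beq (T.ol v) 4) T.N = 1920 := by decide +kernel

end Cfsg.Agent.Lib.Helper56.Fi24U9
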